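import Mathlib
import Groth.Prelude.Def_W4c2gaugesfzipsQuiet
import Groth.Prelude.Def_FrobAlg
import Groth.Agent.Lib.Helper8.RelFrob.Smooth

set_option autoImplicit false
open scoped TensorProduct
open Polynomial CategoryTheory AlgebraicGeometry Module

namespace Groth.Agent.H8.RootTower

universe u

/-- unique representation by monomials with exponents `< p`. -/
def MonoRep (p n : ℕ) (R S : Type u) [CommRing R] [CommRing S] (φ : R →+* S) (t : Fin n → S) :
    Prop :=
  ∀ s : S, ∃! c : (Fin n → Fin p) → R, s = ∑ e, φ (c e) * ∏ i, t i ^ ((e i : Fin p) : ℕ)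

theorem monoRep_transport (p n : ℕ) {L R S : Type u} [CommRing L] [CommRing R] [CommRing S]
    (ψ : L →+* L) (φ : R →+* S) (σ1 : L ≃+* R) (σ2 : L ≃+* S)
    (hc : ∀ x, φ (σ1 x) = σ2 (ψ x)) (t : Fin n → L) (h : MonoRep p n L L ψ t) :
    MonoRep p n R S φ (fun i => σ2 (t i)) := by
  intro s
  obtain ⟨c, hc1, hcu⟩ := h (σ2.symm s)
  refine ⟨fun e => σ1 (c e), ?_, ?_⟩
  · have h1 := congrArg σ2 hc1
    rw [RingEquiv.apply_symm_apply] at h1
    rw [h1]
    simp only [map_sum, map_mul, map_prod, map_pow, hc]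
  · intro c' hc'
    have h2 : σ2.symm s = ∑ e, ψ (σ1.symm (c' e)) * ∏ i, t i ^ ((e i : Fin p) : ℕ) := by
      have h3 : ∀ e, φ (c' e) = σ2 (ψ (σ1.symm (c' e))) := by
        intro e; rw [← hc, RingEquiv.apply_symm_apply]
      rw [hc']
      simp only [map_sum, map_mul, map_prod, map_pow, h3, RingEquiv.symm_apply_apply]
    have h4 := hcu (fun e => σ1.symm (c' e)) h2
    funext e
    have h5 : σ1.symm (c' e) = c e := congrFun h4 e
    rw [← h5, RingEquiv.apply_symm_apply]

theorem monoRep_step (p : ℕ) (hp : p ≠ 0) (n : ℕ) (R S : Type u) [CommRing R] [CommRing S]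
    (φ : R →+* S) (t : Fin (n + 1) → S) (a₀ : R)
    (hroot : eval₂ φ (t 0) (X ^ p - C a₀ : R[X]) = 0)
    (hrep : MonoRep p (n + 1) R S φ t) :
    MonoRep p n (AdjoinRoot (X ^ p - C a₀ : R[X])) S (AdjoinRoot.lift φ (t 0) hroot)
      (fun i => t i.succ) := by
  classical
  rcases subsingleton_or_nontrivial R with hR | hR
  · haveI : Subsingleton S := φ.codomain_trivial
    haveI : Subsingleton (AdjoinRoot (X ^ p - C a₀ : R[X])) :=
      (AdjoinRoot.of (X ^ p - C a₀ : R[X])).codomain_trivial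
    intro s
    exact ⟨fun _ => 0, Subsingleton.elim _ _, fun _ _ => Subsingleton.elim _ _⟩
  have hmonic : (X ^ p - C a₀ : R[X]).Monic := monic_X_pow_sub_C a₀ hp
  have hdeg : (X ^ p - C a₀ : R[X]).natDegree = p := natDegree_X_pow_sub_C
  obtain ⟨φ', hφ'⟩ : ∃ φ' : AdjoinRoot (X ^ p - C a₀ : R[X]) →+* S,
      φ' = AdjoinRoot.lift φ (t 0) hroot := ⟨_, rfl⟩
  rw [← hφ']
  have hφ'of : ∀ x : R, φ' (AdjoinRoot.of _ x) = φ x := by
    intro x; rw [hφ', AdjoinRoot.lift_of]
  have hφ'root : φ' (AdjoinRoot.root _) = t 0 := by rw [hφ', AdjoinRoot.lift_root]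
  have hdim : (AdjoinRoot.powerBasis' hmonic).dim = p := hdeg
  obtain ⟨b, hb⟩ : ∃ b : Basis (Fin p) R (AdjoinRoot (X ^ p - C a₀ : R[X])),
      ∀ j : Fin p, b j = AdjoinRoot.root _ ^ (j : ℕ) := by
    refine ⟨(AdjoinRoot.powerBasis' hmonic).basis.reindex (finCongr hdim), fun j => ?_⟩
    rw [Basis.reindex_apply, PowerBasis.coe_basis, AdjoinRoot.powerBasis'_gen]
    simp
  have hφ'comb : ∀ d : Fin p → R, φ' (∑ j, d j • b j) = ∑ j, φ (d j) * t 0 ^ (j : ℕ) := by
    intro d
    rw [map_sum]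
    refine Finset.sum_congr rfl (fun j _ => ?_)
    rw [Algebra.smul_def, map_mul, AdjoinRoot.algebraMap_eq, hb, map_pow, hφ'of, hφ'root]
  have hkey : ∀ c : (Fin (n + 1) → Fin p) → R,
      ∑ e' : Fin n → Fin p, φ' (∑ j, c (Fin.cons j e') • b j) *
          ∏ i, t i.succ ^ ((e' i : Fin p) : ℕ) =
        ∑ e : Fin (n + 1) → Fin p, φ (c e) * ∏ i, t i ^ ((e i : Fin p) : ℕ) := by
    intro c
    have h1 : ∑ e : Fin (n + 1) → Fin p, φ (c e) * ∏ i, t i ^ ((e i : Fin p) : ℕ) =
        ∑ x : Fin p × (Fin n → Fin p), φ (c (Fin.cons x.1 x.2)) *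
          ∏ i, t i ^ (((Fin.cons x.1 x.2 : Fin (n + 1) → Fin p) i : Fin p) : ℕ) :=
      ((Fin.consEquiv (fun _ : Fin (n + 1) => Fin p)).sum_comp
        (fun e => φ (c e) * ∏ i, t i ^ ((e i : Fin p) : ℕ))).symm
    rw [h1, Fintype.sum_prod_type, Finset.sum_comm]
    refine Finset.sum_congr rfl (fun e' _ => ?_)
    rw [hφ'comb (fun j => c (Fin.cons j e')), Finset.sum_mul]
    refine Finset.sum_congr rfl (fun j _ => ?_)
    rw [Fin.prod_univ_succ]
    simp only [Fin.cons_zero, Fin.cons_succ]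
    ring
  intro s
  obtain ⟨c, hc, hcu⟩ := hrep s
  refine ⟨fun e' => ∑ j, c (Fin.cons j e') • b j, ?_, ?_⟩
  · show s = ∑ e' : Fin n → Fin p, φ' (∑ j, c (Fin.cons j e') • b j) *
        ∏ i, t i.succ ^ ((e' i : Fin p) : ℕ)
    rw [hkey c]; exact hc
  · intro c' hc'
    obtain ⟨c₂, hc₂⟩ : ∃ c₂ : (Fin (n + 1) → Fin p) → R,
        ∀ e, c₂ e = b.repr (c' (Fin.tail e)) (e 0) := ⟨_, fun _ => rfl⟩
    have h2 : ∀ e', ∑ j, c₂ (Fin.cons j e') • b j = c' e' := by
      intro e'
      simp only [hc₂, Fin.cons_zero, Fin.tail_cons]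
      exact b.sum_repr _
    have h3 : s = ∑ e : Fin (n + 1) → Fin p, φ (c₂ e) * ∏ i, t i ^ ((e i : Fin p) : ℕ) := by
      rw [← hkey c₂]
      simp only [h2]
      exact hc'
    have h4 : c₂ = c := hcu c₂ h3
    funext e'
    rw [← h2 e', h4]

theorem isRootTower_of_monoRep (p : ℕ) (hp : p ≠ 0) (n : ℕ) :
    ∀ (R S : Type u) [CommRing R] [CommRing S] [Algebra R S] (t : Fin n → S) (a : Fin n → R),
      (∀ i, t i ^ p = algebraMap R S (a i)) → MonoRep p n R S (algebraMap R S) t →
      Quiet.IsRootTower p n R S := by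
  induction n with
  | zero =>
    intro R S _ _ _ t a _ hrep
    have hbij : Function.Bijective (algebraMap R S) := by
      constructor
      · intro x y hxy
        obtain ⟨c, -, hcu⟩ := hrep (algebraMap R S x)
        have h1 := hcu (fun _ => x) (by simp)
        have h2 := hcu (fun _ => y) (by simp [hxy])
        exact congrFun (h1.trans h2.symm) (fun i => i.elim0)
      · intro s
        obtain ⟨c, hc, -⟩ := hrep s
        refine ⟨c (fun i => i.elim0), ?_⟩
        rw [hc]
        simp [Fintype.sum_unique]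
        congr 1
    exact ⟨(AlgEquiv.ofBijective (Algebra.ofId R S) hbij).symm⟩
  | succ n ih =>
    intro R S _ _ _ t a hta hrep
    have hroot : eval₂ (algebraMap R S) (t 0) (X ^ p - C (a 0) : R[X]) = 0 := by
      rw [eval₂_sub, eval₂_pow, eval₂_X, eval₂_C, hta 0, sub_self]
    letI algR'S : Algebra (AdjoinRoot (X ^ p - C (a 0) : R[X])) S :=
      (AdjoinRoot.lift (algebraMap R S) (t 0) hroot).toAlgebra
    have htower : IsScalarTower R (AdjoinRoot (X ^ p - C (a 0) : R[X])) S :=
      IsScalarTower.of_algebraMap_eq (fun r => by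
        show algebraMap R S r = AdjoinRoot.lift (algebraMap R S) (t 0) hroot
          (algebraMap R (AdjoinRoot (X ^ p - C (a 0) : R[X])) r)
        rw [AdjoinRoot.algebraMap_eq, AdjoinRoot.lift_of])
    show ∃ (a' : R) (_ : Algebra (Quiet.RootRing p R a') S),
      IsScalarTower R (Quiet.RootRing p R a') S ∧
        Quiet.IsRootTower p n (Quiet.RootRing p R a') S
    refine ⟨a 0, algR'S, htower, ?_⟩
    refine @ih (AdjoinRoot (X ^ p - C (a 0) : R[X])) S _ _ algR'S (fun i => t i.succ)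
      (fun i => AdjoinRoot.of _ (a i.succ)) ?_ ?_
    · intro i
      show t i.succ ^ p = AdjoinRoot.lift (algebraMap R S) (t 0) hroot (AdjoinRoot.of _ (a i.succ))
      rw [AdjoinRoot.lift_of]; exact hta i.succ
    · exact monoRep_step p hp n R S (algebraMap R S) t (a 0) hroot hrep

section Frob

open FrobAlg Groth.Agent.H8.RelFrob

variable (p : ℕ) [hp : Fact p.Prime] (k : Type u) [Field k] [CharP k p] [PerfectRing k p]

theorem bijective_includeLeft (L : Type u) [CommRing L] [Algebra k L] :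
    Function.Bijective
      (Algebra.TensorProduct.includeLeftRingHom : L →+* BaseChange p k L) := by
  have hbij : Function.Bijective (algebraMap k (Twist p k)) := by
    have h : ⇑(algebraMap k (Twist p k)) = ⇑(toTwist p k) ∘ ⇑(frobenius k p) := rfl
    rw [h]
    exact (toTwist p k).bijective.comp (bijective_frobenius k p)
  let e₀ : k ≃ₗ[k] Twist p k := LinearEquiv.ofBijective (Algebra.linearMap k (Twist p k)) hbij
  let e : L ≃ₗ[k] L ⊗[k] Twist p k :=
    (TensorProduct.rid k L).symm.trans (TensorProduct.congr (LinearEquiv.refl k L) e₀)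
  have he : ⇑(Algebra.TensorProduct.includeLeftRingHom : L →+* BaseChange p k L) = ⇑e := by
    funext a
    show a ⊗ₜ[k] (1 : Twist p k) = e a
    simp only [e, e₀, LinearEquiv.trans_apply, TensorProduct.rid_symm_apply,
      TensorProduct.congr_tmul, LinearEquiv.refl_apply, LinearEquiv.ofBijective_apply,
      Algebra.linearMap_apply, map_one]
  rw [he]; exact e.bijective

theorem monoRep_frobenius_of_stdSmooth (L : Type u) [CommRing L] [Algebra k L] [CharP L p]
    (n : ℕ) [Algebra.IsStandardSmoothOfRelativeDimension n k L] :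
    ∃ t : Fin n → L, MonoRep p n L L (frobenius L p) t := by
  classical
  obtain ⟨g, hg⟩ := Algebra.IsStandardSmoothOfRelativeDimension.exists_etale_mvPolynomial n k L
  letI algPC : Algebra (MvPolynomial (Fin n) k) L := g.toRingHom.toAlgebra
  haveI : IsScalarTower k (MvPolynomial (Fin n) k) L :=
    IsScalarTower.of_algebraMap_eq (fun a => (g.commutes a).symm)
  haveI : Algebra.Etale (MvPolynomial (Fin n) k) L := hg
  obtain ⟨β, hβ⟩ := exists_basis_of_etale' p k (MvPolynomial (Fin n) k) L (basisPoly p k (Fin n))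
  refine ⟨fun i => g (MvPolynomial.X i), ?_⟩
  have hmono : ∀ e : Fin n → Fin p,
      (MvPolynomial.monomial (Finsupp.equivFunOnFinite.symm (fun i => ((e i : Fin p) : ℕ)))
        (1 : k) : MvPolynomial (Fin n) k) = ∏ i, MvPolynomial.X i ^ ((e i : Fin p) : ℕ) := by
    intro e
    rw [MvPolynomial.monomial_eq, MvPolynomial.C_1, one_mul,
      Finsupp.prod_fintype _ _ (fun i => pow_zero _)]
    simp
  have hβ' : ∀ e, β e = toBT p k L (∏ i, g (MvPolynomial.X i) ^ ((e i : Fin p) : ℕ)) := by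
    intro e
    rw [hβ, basisPoly_apply, vec, RingEquiv.symm_apply_apply, hmono]
    congr 1
    show g (∏ i, MvPolynomial.X i ^ ((e i : Fin p) : ℕ)) = _
    rw [map_prod]; simp only [map_pow]
  have hι := bijective_includeLeft p k L
  obtain ⟨ι', hι'⟩ : ∃ ι' : L →+* BaseChange p k L,
      ι' = Algebra.TensorProduct.includeLeftRingHom := ⟨_, rfl⟩
  rw [← hι'] at hι
  have hsmul : ∀ (c : L) (e : Fin n → Fin p), (ι' c) • β e =
      toBT p k L (c ^ p * ∏ i, g (MvPolynomial.X i) ^ ((e i : Fin p) : ℕ)) := by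
    intro c e
    rw [Algebra.smul_def, algebraMap_W_BT, hβ' e, hι']
    show toBT p k L (relFrob p k L (c ⊗ₜ[k] (1 : Twist p k))) * _ = _
    rw [relFrob_tmul, map_one, map_one, mul_one, ← map_mul]
  intro s
  obtain ⟨c, hc⟩ : ∃ c : (Fin n → Fin p) → L, ∀ e, ι' (c e) = β.equivFun (toBT p k L s) e :=
    ⟨fun e => (Equiv.ofBijective ι' hι).symm (β.equivFun (toBT p k L s) e),
      fun e => (Equiv.ofBijective ι' hι).apply_symm_apply _⟩
  refine ⟨c, ?_, ?_⟩
  · show s = ∑ e, frobenius L p (c e) * ∏ i, g (MvPolynomial.X i) ^ ((e i : Fin p) : ℕ)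
    apply (toBT p k L).injective
    rw [← β.sum_equivFun (toBT p k L s), map_sum]
    refine Finset.sum_congr rfl (fun e _ => ?_)
    rw [← hc e, hsmul, frobenius_def]
  · intro c' hc'
    have h3 : β.equivFun.symm (fun e => ι' (c' e)) = toBT p k L s := by
      rw [β.equivFun_symm_apply, hc', map_sum]
      refine Finset.sum_congr rfl (fun e _ => ?_)
      rw [hsmul, frobenius_def]
    have h4 : (fun e => ι' (c' e)) = β.equivFun (toBT p k L s) := by
      rw [← h3, LinearEquiv.apply_symm_apply]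
    funext e
    apply hι.1
    rw [hc e]; exact congrFun h4 e

end Frob

theorem isRootTower_of_localization (p : ℕ) (hp : p ≠ 0) {A : Type u} [CommRing A] (r : A)
    (n : ℕ) (ψ : Localization.Away r →+* Localization.Away r) (hψ : ∀ x, ψ x = x ^ p)
    (t : Fin n → Localization.Away r)
    (ht : MonoRep p n (Localization.Away r) (Localization.Away r) ψ t)
    (R1 R2 : Type u) [CommRing R1] [CommRing R2] [Algebra A R1] [Algebra A R2]
    [IsLocalization.Away r R1] [IsLocalization.Away (r ^ p) R2] (φ : R1 →+* R2)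
    (hφ : ∀ a, φ (algebraMap A R1 a) = algebraMap A R2 (a ^ p)) :
    letI := φ.toAlgebra
    Quiet.IsRootTower p n R1 R2 := by
  haveI hloc2 : IsLocalization (Submonoid.powers r) R2 := by
    refine IsLocalization.of_le (M := Submonoid.powers (r ^ p)) (Submonoid.powers r)
      (Submonoid.powers_le.mpr ⟨p, rfl⟩) ?_
    rintro _ ⟨m, rfl⟩
    have hu : IsUnit (algebraMap A R2 (r ^ p)) :=
      IsLocalization.map_units R2 (⟨r ^ p, Submonoid.mem_powers _⟩ : Submonoid.powers (r ^ p))
    rw [map_pow] at hu ⊢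
    exact ((isUnit_pow_iff hp).mp hu).pow m
  let σ1 : Localization.Away r ≃ₐ[A] R1 := IsLocalization.algEquiv (Submonoid.powers r) _ _
  let σ2 : Localization.Away r ≃ₐ[A] R2 := IsLocalization.algEquiv (Submonoid.powers r) _ _
  have hcompat : ∀ x, φ (σ1 x) = σ2 (ψ x) := by
    have h : (φ.comp (σ1 : Localization.Away r →+* R1)) =
        ((σ2 : Localization.Away r →+* R2).comp ψ) := by
      apply IsLocalization.ringHom_ext (Submonoid.powers r)
      ext a
      show φ (σ1 (algebraMap A _ a)) = σ2 (ψ (algebraMap A _ a))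
      rw [AlgEquiv.commutes, hφ, hψ, ← map_pow, AlgEquiv.commutes]
    intro x; exact congrArg (fun f : Localization.Away r →+* R2 => f x) h
  letI := φ.toAlgebra
  refine isRootTower_of_monoRep p hp n R1 R2 (fun i => σ2 (t i)) (fun i => σ1 (t i)) ?_ ?_
  · intro i
    show σ2 (t i) ^ p = φ (σ1 (t i))
    rw [hcompat, hψ, map_pow]
  · exact monoRep_transport p n ψ φ σ1.toRingEquiv σ2.toRingEquiv hcompat t ht

end Groth.Agent.H8.RootTower
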