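import Mathlib
import Groth.Prelude.Def_W4c2gaugesfzipsQuiet
import Groth.Prelude.Def_FrobAlg
import Groth.Agent.Lib.Helper8.Quiet.RootTower

set_option autoImplicit false
open scoped TensorProduct
open Polynomial CategoryTheory AlgebraicGeometry Module

namespace Groth.Agent.H8.RootTower

universe u

open FrobAlg Groth.Agent.H8.RelFrob

section Scheme

theorem app_algebraMap (R : CommRingCat.{u}) (F : R ⟶ R) (r a : R) :
    ((Spec.map F).app (PrimeSpectrum.basicOpen r)).hom
      (algebraMap R Γ(Spec R, PrimeSpectrum.basicOpen r) a) =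
    algebraMap R Γ(Spec R, Spec.map F ⁻¹ᵁ PrimeSpectrum.basicOpen r) (F.hom a) := by
  have h := StructureSheaf.toOpen_comp_comap F.hom (PrimeSpectrum.basicOpen r)
  have h2 := congrArg (fun m => m.hom a) h
  simp only [CommRingCat.hom_comp, CommRingCat.hom_ofHom, RingHom.comp_apply] at h2
  exact h2

variable (p : ℕ) [hp : Fact p.Prime] (k : Type u) [Field k] [CharP k p] [PerfectRing k p]

theorem isRootTower_app (R : CommRingCat.{u}) [Algebra k R] [CharP R p] (F : R ⟶ R)
    (hF : ∀ a, F.hom a = a ^ p) (r : R) [Nontrivial (Localization.Away r)]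
    [Algebra.IsStandardSmooth k (Localization.Away r)] :
    letI := ((Spec.map F).app (PrimeSpectrum.basicOpen r)).hom.toAlgebra
    ∃ n : ℕ, Quiet.IsRootTower p n Γ(Spec R, PrimeSpectrum.basicOpen r)
      Γ(Spec R, Spec.map F ⁻¹ᵁ PrimeSpectrum.basicOpen r) := by
  haveI : CharP (Localization.Away r) p := charP_of_algebra p R _
  obtain ⟨ι, σ, hσ, hι, ⟨P⟩⟩ :=
    (inferInstance : Algebra.IsStandardSmooth k (Localization.Away r)).out
  haveI : Algebra.IsStandardSmoothOfRelativeDimension P.dimension k (Localization.Away r) :=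
    ⟨ι, σ, hσ, hι, P, rfl⟩
  obtain ⟨t, ht⟩ := monoRep_frobenius_of_stdSmooth p k (Localization.Away r) P.dimension
  refine ⟨P.dimension, ?_⟩
  haveI h2 : IsLocalization.Away (r ^ p) Γ(Spec R, Spec.map F ⁻¹ᵁ PrimeSpectrum.basicOpen r) := by
    have e : r ^ p = F.hom r := (hF r).symm
    rw [e]
    exact (inferInstance : IsLocalization.Away (F.hom r)
      Γ(Spec R, PrimeSpectrum.basicOpen (F.hom r)))
  exact isRootTower_of_localization p hp.out.ne_zero r P.dimension
    (frobenius _ p) (fun x => frobenius_def p x) t ht _ _ _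
    (fun a => by rw [app_algebraMap, hF])

end Scheme

section Main

variable (p : ℕ) [hp : Fact p.Prime] (k : Type u) [Field k] [CharP k p] [PerfectRing k p]
  (A : Type u) [CommRing A] [Algebra k A] [CharP A p] [Algebra.Smooth k A]

include k in
theorem faithfullyFlat_frobenius : (frobenius A p).FaithfullyFlat := by
  rw [RingHom.FaithfullyFlat.iff_flat_and_comap_surjective]
  refine ⟨?_, ?_⟩
  · have h1 : (relFrob p k A).Flat := flat_of_smooth p k A
    have h2 : (Algebra.TensorProduct.includeLeftRingHom : A →+* BaseChange p k A).Flat :=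
      RingHom.Flat.of_bijective (bijective_includeLeft p k A)
    have h3 : frobenius A p =
        (relFrob p k A).comp (Algebra.TensorProduct.includeLeftRingHom : A →+* BaseChange p k A) := by
      ext a
      rw [RingHom.comp_apply, frobenius_def]
      show a ^ p = relFrob p k A (a ⊗ₜ[k] (1 : Twist p k))
      rw [relFrob_tmul, map_one, map_one, mul_one]
    rw [h3]; exact h2.comp h1
  · intro P
    refine ⟨P, PrimeSpectrum.ext ?_⟩
    ext a
    rw [PrimeSpectrum.comap_asIdeal, Ideal.mem_comap, frobenius_def]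
    exact P.isPrime.pow_mem_iff_mem p hp.out.pos

include k in
theorem main :
    (frobenius A p).FaithfullyFlat ∧
      Quiet.IsPthRoot p (Spec.map (CommRingCat.ofHom (frobenius A p))) := by
  refine ⟨faithfullyFlat_frobenius p k A, ?_⟩
  intro x
  obtain ⟨s, hs, h⟩ := Algebra.Smooth.exists_span_eq_top_isStandardSmooth k A
  obtain ⟨x', hx'⟩ : ∃ x' : PrimeSpectrum A, x' = x := ⟨x, rfl⟩
  obtain ⟨r, hrs, hrx⟩ : ∃ r ∈ s, r ∉ x'.asIdeal := by
    by_contra hcon
    push Not at hcon
    have h1 : Ideal.span s ≤ x'.asIdeal := Ideal.span_le.mpr hcon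
    rw [hs] at h1
    exact x'.isPrime.ne_top (top_le_iff.mp h1)
  haveI := h r hrs
  haveI hnt : Nontrivial (Localization.Away r) := by
    refine ⟨⟨0, 1, fun h01 => ?_⟩⟩
    have h' : algebraMap A (Localization.Away r) 0 = algebraMap A (Localization.Away r) 1 := by
      rw [map_zero, map_one]; exact h01
    obtain ⟨⟨c, m, hm⟩, hc⟩ :=
      (IsLocalization.eq_iff_exists (Submonoid.powers r) (Localization.Away r)).mp h'
    simp only [mul_zero, mul_one] at hc
    have h3 : r ^ m ∈ x'.asIdeal := by
      have h4 : r ^ m = 0 := (show r ^ m = c from hm).trans hc.symm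
      rw [h4]; exact x'.asIdeal.zero_mem
    exact hrx (x'.isPrime.mem_of_pow_mem m h3)
  have haffr : ∀ r' : A,
      IsAffineOpen (X := Spec (CommRingCat.of A)) (PrimeSpectrum.basicOpen r') := by
    intro r'
    have h0 := (isAffineOpen_top (Spec (CommRingCat.of A))).basicOpen
      ((Scheme.ΓSpecIso (CommRingCat.of A)).inv r')
    rw [basicOpen_eq_of_affine] at h0
    exact h0
  have haff := haffr r
  have haff2 : IsAffineOpen (X := Spec (CommRingCat.of A))
      (Spec.map (CommRingCat.ofHom (frobenius A p)) ⁻¹ᵁ PrimeSpectrum.basicOpen r) :=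
    haffr ((frobenius A p) r)
  refine ⟨⟨PrimeSpectrum.basicOpen r, haff⟩, ?_, haff2, ?_⟩
  · rw [← hx']; exact hrx
  · exact isRootTower_app p k (CommRingCat.of A) (CommRingCat.ofHom (frobenius A p))
      (fun a => frobenius_def p a) r

end Main

end Groth.Agent.H8.RootTower
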