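import Mathlib
import Groth.Prelude.Def_W4c2gaugesfzipsQuiet
import Groth.Prelude.Def_FrobAlg
import Groth.Agent.Lib.Helper8.Quiet.RootTowerSch

set_option autoImplicit false
open scoped TensorProduct
open CategoryTheory AlgebraicGeometry Module

namespace Groth.Agent.H8.FrobQuot

universe u

open Groth.Agent.H8.RootTower Groth.Agent.H8.RelFrob

section Regular

open RingTheory.Sequence

theorem isRegular_map (R S : Type u) [CommRing R] [CommRing S] (φ : R →+* S)
    (hφ : φ.FaithfullyFlat) (rs : List R) (h : IsRegular R rs) : IsRegular S (rs.map φ) := by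
  algebraize [φ]
  exact h.of_faithfullyFlat

theorem faithfullyFlat_quotientMap {R S : Type u} [CommRing R] [CommRing S] (φ : R →+* S)
    (hφ : φ.FaithfullyFlat) (J : Ideal R) :
    (Ideal.quotientMap (J.map φ) φ Ideal.le_comap_map).FaithfullyFlat := by
  algebraize [φ]
  have e := Algebra.TensorProduct.quotIdealMapEquivQuotTensor S J
  haveI : Module.FaithfullyFlat (R ⧸ J) (S ⧸ J.map (algebraMap R S)) :=
    Module.FaithfullyFlat.of_linearEquiv (R ⧸ J) ((R ⧸ J) ⊗[R] S) e.toLinearEquiv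
  exact RingHom.faithfullyFlat_algebraMap_iff.mpr this

theorem isRegular_append_of_quot {P : Type u} [CommRing P] (rs₁ rs₂ : List P) (I₀ : Ideal P)
    (hI : Ideal.ofList rs₁ = I₀) (h1 : IsRegular P rs₁)
    (h2 : IsRegular (P ⧸ I₀) (rs₂.map (Ideal.Quotient.mk I₀))) :
    IsRegular P (rs₁ ++ rs₂) := by
  have h3 : IsWeaklyRegular (P ⧸ I₀) rs₂ :=
    (isWeaklyRegular_map_algebraMap_iff (P ⧸ I₀) (P ⧸ I₀) rs₂).mp h2.1
  have hsm : (Ideal.ofList rs₁ • ⊤ : Submodule P P) = I₀ := by
    rw [Ideal.smul_eq_mul, Ideal.mul_top, hI]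
  let e : (P ⧸ (Ideal.ofList rs₁ • ⊤ : Submodule P P)) ≃ₗ[P] (P ⧸ I₀) :=
    Submodule.quotEquivOfEq _ _ hsm
  refine ⟨(isWeaklyRegular_append_iff P rs₁ rs₂).mpr
    ⟨h1.1, (e.isWeaklyRegular_congr rs₂).mpr h3⟩, ?_⟩
  intro htop
  apply h2.2
  rw [Ideal.smul_eq_mul, Ideal.mul_top] at htop ⊢
  have h4 : Ideal.map (Ideal.Quotient.mk I₀) (Ideal.ofList (rs₁ ++ rs₂)) = ⊤ := by
    rw [← htop, Ideal.map_top]
  rw [Ideal.ofList_append, Ideal.map_sup, hI, Ideal.map_quotient_self, bot_sup_eq,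
    Ideal.map_ofList] at h4
  exact h4.symm

theorem regular_main (p : ℕ) [hp : Fact p.Prime] (k : Type u) [Field k] [CharP k p]
    [PerfectRing k p] (A : Type u) [CommRing A] [Algebra k A] [CharP A p] [Algebra.Smooth k A]
    (n : ℕ) (t : Fin n → A) (ht : IsRegular A (List.ofFn t)) (r m : ℕ)
    (v : Fin m → MvPolynomial (Fin r) A)
    (hv : IsRegular
      (MvPolynomial (Fin r) A ⧸ Ideal.span (Set.range fun i => MvPolynomial.C (t i) ^ p))
      (List.ofFn fun j => Ideal.Quotient.mk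
        (Ideal.span (Set.range fun i => MvPolynomial.C (t i) ^ p)) (v j))) :
    IsRegular (MvPolynomial (Fin r) A)
      (List.ofFn (fun i => MvPolynomial.C (t i) ^ (p ^ 2)) ++ List.ofFn (fun j => v j ^ p)) := by
  haveI : Nontrivial A := CharP.nontrivial_of_char_ne_one (R := A) hp.out.ne_one
  haveI : Algebra.Smooth A (MvPolynomial (Fin r) A) := {}
  haveI : Algebra.Smooth k (MvPolynomial (Fin r) A) := Algebra.Smooth.comp k A _
  have hFA := faithfullyFlat_frobenius p k A
  have hFP := faithfullyFlat_frobenius p k (MvPolynomial (Fin r) A)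
  have hC : (MvPolynomial.C : A →+* MvPolynomial (Fin r) A).FaithfullyFlat := by
    have h0 : (algebraMap A (MvPolynomial (Fin r) A)).FaithfullyFlat :=
      RingHom.faithfullyFlat_algebraMap_iff.mpr inferInstance
    rwa [MvPolynomial.algebraMap_eq] at h0
  have hA : IsRegular A (List.ofFn fun i => t i ^ p) := by
    have h := isRegular_map A A (frobenius A p) hFA _ ht
    simpa only [List.map_ofFn, Function.comp_def, frobenius_def] using h
  have hP1 : IsRegular (MvPolynomial (Fin r) A)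
      (List.ofFn fun i => (MvPolynomial.C (t i) : MvPolynomial (Fin r) A) ^ p) := by
    have h := isRegular_map A _ MvPolynomial.C hC _ hA
    simpa only [List.map_ofFn, Function.comp_def, map_pow] using h
  have hI : Ideal.ofList
      (List.ofFn fun i => (MvPolynomial.C (t i) : MvPolynomial (Fin r) A) ^ p) =
      Ideal.span (Set.range fun i => MvPolynomial.C (t i) ^ p) := by
    refine congrArg Ideal.span (Set.ext fun x => ?_)
    simp [List.mem_ofFn]
  have hP2 := isRegular_append_of_quot _ (List.ofFn v) _ hI hP1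
    (by rw [List.map_ofFn]; exact hv)
  have h := isRegular_map _ _ (frobenius (MvPolynomial (Fin r) A) p) hFP _ hP2
  rw [List.map_append, List.map_ofFn, List.map_ofFn] at h
  have e1 : (⇑(frobenius (MvPolynomial (Fin r) A) p) ∘
      fun i => (MvPolynomial.C (t i) : MvPolynomial (Fin r) A) ^ p) =
      fun i => MvPolynomial.C (t i) ^ (p ^ 2) := by
    funext i
    rw [Function.comp_apply, frobenius_def, ← pow_mul, sq]
  have e2 : (⇑(frobenius (MvPolynomial (Fin r) A) p) ∘ v) = fun j => v j ^ p := rfl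
  rw [e1, e2] at h
  exact h

end Regular

section MonoQuot

/-- representation with coefficients in an ideal. -/
def KRep (p n : ℕ) {R S : Type u} [CommRing R] [CommRing S] (φ : R →+* S) (t : Fin n → S)
    (K : Ideal R) (z : S) : Prop :=
  ∃ c : (Fin n → Fin p) → R, (∀ e, c e ∈ K) ∧
    z = ∑ e, φ (c e) * ∏ i, t i ^ ((e i : Fin p) : ℕ)

theorem kRep_zero (p n : ℕ) {R S : Type u} [CommRing R] [CommRing S] (φ : R →+* S)
    (t : Fin n → S) (K : Ideal R) : KRep p n φ t K 0 :=
  ⟨fun _ => 0, fun _ => K.zero_mem, by simp⟩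

theorem kRep_add (p n : ℕ) {R S : Type u} [CommRing R] [CommRing S] (φ : R →+* S)
    (t : Fin n → S) (K : Ideal R) (a b : S) (ha : KRep p n φ t K a) (hb : KRep p n φ t K b) :
    KRep p n φ t K (a + b) := by
  obtain ⟨c, hc1, rfl⟩ := ha
  obtain ⟨c', hc'1, rfl⟩ := hb
  refine ⟨fun e => c e + c' e, fun e => K.add_mem (hc1 e) (hc'1 e), ?_⟩
  simp only [map_add, add_mul, Finset.sum_add_distrib]

theorem kRep_mul (p n : ℕ) {R S : Type u} [CommRing R] [CommRing S] (φ : R →+* S)
    (t : Fin n → S) (h : MonoRep p n R S φ t) (K : Ideal R) (s : S) (κ : R) (hκ : κ ∈ K) :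
    KRep p n φ t K (s * φ κ) := by
  obtain ⟨a, ha, -⟩ := h s
  refine ⟨fun e => a e * κ, fun e => K.mul_mem_left _ hκ, ?_⟩
  conv_lhs => rw [ha]
  rw [Finset.sum_mul]
  refine Finset.sum_congr rfl (fun e _ => ?_)
  rw [map_mul]; ring

theorem kRep_of_mem_map (p n : ℕ) {R S : Type u} [CommRing R] [CommRing S] (φ : R →+* S)
    (t : Fin n → S) (h : MonoRep p n R S φ t) (K : Ideal R) (z : S) (hz : z ∈ K.map φ) :
    KRep p n φ t K z := by
  have hz' : z ∈ Submodule.span S (φ '' (K : Set R)) := hz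
  refine Submodule.span_induction (p := fun z _ => KRep p n φ t K z) ?_ (kRep_zero p n φ t K)
    (fun a b _ _ ha hb => kRep_add p n φ t K a b ha hb) ?_ hz'
  · rintro _ ⟨κ, hκ, rfl⟩
    have := kRep_mul p n φ t h K 1 κ hκ
    rwa [one_mul] at this
  · rintro a x _ ⟨c, hc1, rfl⟩
    rw [smul_eq_mul, Finset.mul_sum]
    refine Finset.sum_induction _ (KRep p n φ t K) (fun a b => kRep_add p n φ t K a b)
      (kRep_zero p n φ t K) (fun e _ => ?_)
    have := kRep_mul p n φ t h K (a * ∏ i, t i ^ ((e i : Fin p) : ℕ)) (c e) (hc1 e)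
    have e1 : a * (φ (c e) * ∏ i, t i ^ ((e i : Fin p) : ℕ)) =
        a * (∏ i, t i ^ ((e i : Fin p) : ℕ)) * φ (c e) := by ring
    rw [e1]; exact this

theorem monoRep_quot (p n : ℕ) {R S R' S' : Type u} [CommRing R] [CommRing S] [CommRing R']
    [CommRing S'] (φ : R →+* S) (φ' : R' →+* S') (π1 : R →+* R') (π2 : S →+* S')
    (h1 : Function.Surjective π1) (h2 : Function.Surjective π2)
    (hc : ∀ x, φ' (π1 x) = π2 (φ x))
    (hker : RingHom.ker π2 = (RingHom.ker π1).map φ)
    (t : Fin n → S) (h : MonoRep p n R S φ t) :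
    MonoRep p n R' S' φ' (fun i => π2 (t i)) := by
  intro s'
  obtain ⟨s, rfl⟩ := h2 s'
  obtain ⟨c, hcs, hcu⟩ := h s
  have e1 : π2 s = ∑ e, π2 (φ (c e)) * ∏ i, π2 (t i) ^ ((e i : Fin p) : ℕ) := by
    conv_lhs => rw [hcs]
    simp only [map_sum, map_mul, map_prod, map_pow]
  refine ⟨fun e => π1 (c e), ?_, ?_⟩
  · show π2 s = ∑ e, φ' (π1 (c e)) * ∏ i, π2 (t i) ^ ((e i : Fin p) : ℕ)
    simp only [hc]
    exact e1
  · intro c' hc'
    have hc'' : π2 s = ∑ e, φ' (c' e) * ∏ i, π2 (t i) ^ ((e i : Fin p) : ℕ) := hc'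
    choose d hd using fun e => h1 (c' e)
    have e1' : π2 s = ∑ e, π2 (φ (d e)) * ∏ i, π2 (t i) ^ ((e i : Fin p) : ℕ) := by
      rw [hc'']
      refine Finset.sum_congr rfl (fun e _ => ?_)
      rw [← hd e, hc]
    have hz : (∑ e, φ (c e - d e) * ∏ i, t i ^ ((e i : Fin p) : ℕ)) ∈ RingHom.ker π2 := by
      have hterm : ∀ e, π2 (φ (c e - d e) * ∏ i, t i ^ ((e i : Fin p) : ℕ)) =
          π2 (φ (c e)) * ∏ i, π2 (t i) ^ ((e i : Fin p) : ℕ) -
            π2 (φ (d e)) * ∏ i, π2 (t i) ^ ((e i : Fin p) : ℕ) := by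
        intro e
        simp only [map_mul, map_prod, map_pow, map_sub, sub_mul]
      rw [RingHom.mem_ker, map_sum]
      simp only [hterm]
      rw [Finset.sum_sub_distrib, ← e1, ← e1', sub_self]
    rw [hker] at hz
    obtain ⟨c₀, hc₀K, hc₀⟩ := kRep_of_mem_map p n φ t h _ _ hz
    obtain ⟨c₁, -, hc₁u⟩ := h (∑ e, φ (c e - d e) * ∏ i, t i ^ ((e i : Fin p) : ℕ))
    have e2 : (fun e => c e - d e) = c₁ := hc₁u _ rfl
    have e3 : c₀ = c₁ := hc₁u _ hc₀
    funext e
    have e4 : c e - d e = c₀ e := by rw [e3, ← e2]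
    have e5 : π1 (c e - d e) = 0 := by rw [e4]; exact hc₀K e
    rw [map_sub, sub_eq_zero] at e5
    rw [← hd e]; exact e5.symm

end MonoQuot

section Loc

theorem loc_quot {P B : Type u} [CommRing P] [CommRing B] (q : P →+* B)
    (hq : Function.Surjective q) (r : P)
    (L R' : Type u) [CommRing L] [CommRing R'] [Algebra P L] [IsLocalization.Away r L]
    [Algebra B R'] [IsLocalization.Away (q r) R'] (π : L →+* R')
    (hπ : ∀ a, π (algebraMap P L a) = algebraMap B R' (q a)) :
    Function.Surjective π ∧ RingHom.ker π = (RingHom.ker q).map (algebraMap P L) := by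
  constructor
  · intro y
    obtain ⟨b, ⟨_, ⟨m, rfl⟩⟩, rfl⟩ := IsLocalization.exists_mk'_eq (Submonoid.powers (q r)) y
    obtain ⟨a, rfl⟩ := hq b
    refine ⟨IsLocalization.mk' L a (⟨r ^ m, ⟨m, rfl⟩⟩ : Submonoid.powers r), ?_⟩
    rw [IsLocalization.eq_mk'_iff_mul_eq]
    show π _ * algebraMap B R' ((q r) ^ m) = algebraMap B R' (q a)
    rw [← map_pow, ← hπ, ← hπ, ← map_mul]
    exact congrArg π (IsLocalization.mk'_spec L a _)
  · apply le_antisymm
    · intro ℓ hℓ
      rw [RingHom.mem_ker] at hℓ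
      obtain ⟨a, s, rfl⟩ := IsLocalization.exists_mk'_eq (Submonoid.powers r) ℓ
      rw [IsLocalization.mk'_mem_map_algebraMap_iff (Submonoid.powers r) L]
      have h1 : algebraMap B R' (q a) = 0 := by
        rw [← hπ, ← IsLocalization.mk'_spec L a s, map_mul, hℓ, zero_mul]
      obtain ⟨⟨_, ⟨m', rfl⟩⟩, h2⟩ :=
        (IsLocalization.map_eq_zero_iff (Submonoid.powers (q r)) R' (q a)).mp h1
      refine ⟨r ^ m', ⟨m', rfl⟩, ?_⟩
      rw [RingHom.mem_ker, map_mul, map_pow]
      exact h2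
    · rw [Ideal.map_le_iff_le_comap]
      intro a ha
      rw [Ideal.mem_comap, RingHom.mem_ker, hπ, (RingHom.mem_ker).mp ha, map_zero]

theorem isRootTower_of_loc_quot (p : ℕ) (hp : p ≠ 0) {P B₀ B : Type u} [CommRing P]
    [CommRing B₀] [CommRing B]
    (q₀ : P →+* B₀) (q : P →+* B) (hq₀ : Function.Surjective q₀) (hq : Function.Surjective q)
    (F : P →+* P) (hF : ∀ x, F x = x ^ p) (β : B₀ →+* B) (hβ : ∀ a, β (q₀ a) = q (F a))
    (hker : RingHom.ker q = (RingHom.ker q₀).map F)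
    (r : P) (n : ℕ) (ψ : Localization.Away r →+* Localization.Away r) (hψ : ∀ x, ψ x = x ^ p)
    (t : Fin n → Localization.Away r)
    (ht : MonoRep p n (Localization.Away r) (Localization.Away r) ψ t)
    (R1 R2 : Type u) [CommRing R1] [CommRing R2] [Algebra B₀ R1] [Algebra B R2]
    [IsLocalization.Away (q₀ r) R1] [IsLocalization.Away (β (q₀ r)) R2]
    (φ : R1 →+* R2) (hφ : ∀ b, φ (algebraMap B₀ R1 b) = algebraMap B R2 (β b)) :
    letI := φ.toAlgebra
    Quiet.IsRootTower p n R1 R2 := by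
  have hβr : β (q₀ r) = q r ^ p := by rw [hβ, hF, map_pow]
  haveI h0 : IsLocalization (Submonoid.powers (q r ^ p)) R2 := by
    rw [← hβr]; infer_instance
  haveI hloc2 : IsLocalization.Away (q r) R2 := by
    refine IsLocalization.of_le (M := Submonoid.powers (q r ^ p)) (Submonoid.powers (q r))
      (Submonoid.powers_le.mpr ⟨p, rfl⟩) ?_
    rintro _ ⟨m, rfl⟩
    have hu : IsUnit (algebraMap B R2 (q r ^ p)) :=
      IsLocalization.map_units R2 (⟨q r ^ p, Submonoid.mem_powers _⟩ : Submonoid.powers (q r ^ p))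
    rw [map_pow] at hu ⊢
    exact ((isUnit_pow_iff hp).mp hu).pow m
  have hu1 : IsUnit (((algebraMap B₀ R1).comp q₀) r) :=
    IsLocalization.map_units R1 (⟨q₀ r, Submonoid.mem_powers _⟩ : Submonoid.powers (q₀ r))
  have hu2 : IsUnit (((algebraMap B R2).comp q) r) :=
    IsLocalization.map_units R2 (⟨q r, Submonoid.mem_powers _⟩ : Submonoid.powers (q r))
  obtain ⟨π1, hπ1⟩ : ∃ π1 : Localization.Away r →+* R1,
      ∀ a, π1 (algebraMap P _ a) = algebraMap B₀ R1 (q₀ a) :=
    ⟨IsLocalization.Away.lift r hu1, fun a => IsLocalization.Away.lift_eq r hu1 a⟩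
  obtain ⟨π2, hπ2⟩ : ∃ π2 : Localization.Away r →+* R2,
      ∀ a, π2 (algebraMap P _ a) = algebraMap B R2 (q a) :=
    ⟨IsLocalization.Away.lift r hu2, fun a => IsLocalization.Away.lift_eq r hu2 a⟩
  obtain ⟨hs1, hk1⟩ := loc_quot q₀ hq₀ r (Localization.Away r) R1 π1 hπ1
  obtain ⟨hs2, hk2⟩ := loc_quot q hq r (Localization.Away r) R2 π2 hπ2
  have hcomm : ∀ x, φ (π1 x) = π2 (ψ x) := by
    have h : (φ.comp π1) = (π2.comp ψ) := by
      apply IsLocalization.ringHom_ext (Submonoid.powers r)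
      ext a
      show φ (π1 (algebraMap P _ a)) = π2 (ψ (algebraMap P _ a))
      rw [hπ1, hφ, hβ, hψ, ← map_pow, hπ2, hF]
    intro x; exact congrArg (fun f : Localization.Away r →+* R2 => f x) h
  have hψalg : ψ.comp (algebraMap P (Localization.Away r)) =
      (algebraMap P (Localization.Away r)).comp F := by
    ext a
    rw [RingHom.comp_apply, RingHom.comp_apply, hψ, hF, map_pow]
  have hker' : RingHom.ker π2 = (RingHom.ker π1).map ψ := by
    rw [hk2, hk1, hker, Ideal.map_map, Ideal.map_map, hψalg]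
  letI := φ.toAlgebra
  refine isRootTower_of_monoRep p hp n R1 R2 (fun i => π2 (t i)) (fun i => π1 (t i)) ?_ ?_
  · intro i
    show π2 (t i) ^ p = φ (π1 (t i))
    rw [hcomm, hψ, map_pow]
  · exact monoRep_quot p n ψ φ π1 π2 hs1 hs2 hcomm hker' t ht

end Loc

section Scheme

theorem app_algebraMap' (R S : CommRingCat.{u}) (F : R ⟶ S) (r a : R) :
    ((Spec.map F).app (PrimeSpectrum.basicOpen r)).hom
      (algebraMap R Γ(Spec R, PrimeSpectrum.basicOpen r) a) =
    algebraMap S Γ(Spec S, Spec.map F ⁻¹ᵁ PrimeSpectrum.basicOpen r) (F.hom a) := by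
  have h := StructureSheaf.toOpen_comp_comap F.hom (PrimeSpectrum.basicOpen r)
  have h2 := congrArg (fun m => m.hom a) h
  simp only [CommRingCat.hom_comp, CommRingCat.hom_ofHom, RingHom.comp_apply] at h2
  exact h2

theorem isAffineOpen_basicOpen' (R : Type u) [CommRing R] (r' : R) :
    IsAffineOpen (X := Spec (CommRingCat.of R)) (PrimeSpectrum.basicOpen r') := by
  have h0 := (isAffineOpen_top (Spec (CommRingCat.of R))).basicOpen
    ((Scheme.ΓSpecIso (CommRingCat.of R)).inv r')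
  rw [basicOpen_eq_of_affine] at h0
  exact h0

variable (p : ℕ) [hp : Fact p.Prime] (k : Type u) [Field k] [CharP k p] [PerfectRing k p]

theorem isRootTower_app_quot (P : Type u) [CommRing P] [Algebra k P] [CharP P p]
    (R S : CommRingCat.{u}) (q₀ : P →+* R) (q : P →+* S) (hq₀ : Function.Surjective q₀)
    (hq : Function.Surjective q) (β : R ⟶ S) (hβ : ∀ a, β.hom (q₀ a) = q (a ^ p))
    (hker : RingHom.ker q = (RingHom.ker q₀).map (frobenius P p))
    (r : P) [Nontrivial (Localization.Away r)]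
    [Algebra.IsStandardSmooth k (Localization.Away r)] :
    letI := ((Spec.map β).app (PrimeSpectrum.basicOpen (q₀ r))).hom.toAlgebra
    ∃ n : ℕ, Quiet.IsRootTower p n Γ(Spec R, PrimeSpectrum.basicOpen (q₀ r))
      Γ(Spec S, Spec.map β ⁻¹ᵁ PrimeSpectrum.basicOpen (q₀ r)) := by
  haveI : CharP (Localization.Away r) p := charP_of_algebra p P _
  obtain ⟨ι, σ, hσ, hι, ⟨Pr⟩⟩ :=
    (inferInstance : Algebra.IsStandardSmooth k (Localization.Away r)).out
  haveI : Algebra.IsStandardSmoothOfRelativeDimension Pr.dimension k (Localization.Away r) :=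
    ⟨ι, σ, hσ, hι, Pr, rfl⟩
  obtain ⟨t, ht⟩ := monoRep_frobenius_of_stdSmooth p k (Localization.Away r) Pr.dimension
  refine ⟨Pr.dimension, ?_⟩
  haveI h2 : IsLocalization.Away (β.hom (q₀ r))
      Γ(Spec S, Spec.map β ⁻¹ᵁ PrimeSpectrum.basicOpen (q₀ r)) :=
    (inferInstance : IsLocalization.Away (β.hom (q₀ r))
      Γ(Spec S, PrimeSpectrum.basicOpen (β.hom (q₀ r))))
  exact isRootTower_of_loc_quot p hp.out.ne_zero q₀ q hq₀ hq (frobenius P p)
    (fun x => frobenius_def p x) β.hom (fun a => by rw [hβ, frobenius_def]) hker r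
    Pr.dimension (frobenius _ p) (fun x => frobenius_def p x) t ht _ _ _
    (fun b => app_algebraMap' R S β (q₀ r) b)

theorem isPthRoot_quot (P : Type u) [CommRing P] [Algebra k P] [CharP P p] [Algebra.Smooth k P]
    (J : Ideal P) :
    Quiet.IsPthRoot p (Spec.map (CommRingCat.ofHom
      (Ideal.quotientMap (J.map (frobenius P p)) (frobenius P p) Ideal.le_comap_map))) := by
  intro x
  obtain ⟨s, hs, h⟩ := Algebra.Smooth.exists_span_eq_top_isStandardSmooth k P
  obtain ⟨x', hx'⟩ : ∃ x' : PrimeSpectrum (P ⧸ J), x' = x := ⟨x, rfl⟩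
  obtain ⟨r, hrs, hrx⟩ : ∃ r ∈ s, Ideal.Quotient.mk J r ∉ x'.asIdeal := by
    by_contra hcon
    push Not at hcon
    have h1 : Ideal.span s ≤ x'.asIdeal.comap (Ideal.Quotient.mk J) :=
      Ideal.span_le.mpr (fun a ha => hcon a ha)
    rw [hs] at h1
    have h2 : (1 : P) ∈ x'.asIdeal.comap (Ideal.Quotient.mk J) := h1 Submodule.mem_top
    rw [Ideal.mem_comap, map_one] at h2
    exact x'.isPrime.ne_top ((Ideal.eq_top_iff_one _).mpr h2)
  haveI := h r hrs
  haveI hnt : Nontrivial (Localization.Away r) := by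
    refine ⟨⟨0, 1, fun h01 => ?_⟩⟩
    have h' : algebraMap P (Localization.Away r) 0 = algebraMap P (Localization.Away r) 1 := by
      rw [map_zero, map_one]; exact h01
    obtain ⟨⟨c, m, hm⟩, hc⟩ :=
      (IsLocalization.eq_iff_exists (Submonoid.powers r) (Localization.Away r)).mp h'
    simp only [mul_zero, mul_one] at hc
    have h4 : r ^ m = 0 := (show r ^ m = c from hm).trans hc.symm
    have h3 : (Ideal.Quotient.mk J r) ^ m ∈ x'.asIdeal := by
      rw [← map_pow, h4, map_zero]; exact x'.asIdeal.zero_mem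
    exact hrx (x'.isPrime.mem_of_pow_mem m h3)
  refine ⟨⟨PrimeSpectrum.basicOpen (Ideal.Quotient.mk J r), isAffineOpen_basicOpen' _ _⟩, ?_,
    isAffineOpen_basicOpen' _ ((Ideal.quotientMap (J.map (frobenius P p)) (frobenius P p)
      Ideal.le_comap_map) (Ideal.Quotient.mk J r)), ?_⟩
  · rw [← hx']; exact hrx
  · exact isRootTower_app_quot p k P (CommRingCat.of (P ⧸ J))
      (CommRingCat.of (P ⧸ J.map (frobenius P p)))
      (Ideal.Quotient.mk J) (Ideal.Quotient.mk _) Ideal.Quotient.mk_surjective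
      Ideal.Quotient.mk_surjective
      (CommRingCat.ofHom (Ideal.quotientMap _ (frobenius P p) Ideal.le_comap_map))
      (fun a => rfl) (by rw [Ideal.mk_ker, Ideal.mk_ker]) r

end Scheme

section Main

variable (p : ℕ) [hp : Fact p.Prime] (k : Type u) [Field k] [CharP k p] [PerfectRing k p]
  (A : Type u) [CommRing A] [Algebra k A] [CharP A p] [Algebra.Smooth k A]

include k in
theorem ff_main (r : ℕ) (J : Ideal (MvPolynomial (Fin r) A)) :
    (Ideal.quotientMap (J.map (frobenius (MvPolynomial (Fin r) A) p))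
      (frobenius (MvPolynomial (Fin r) A) p) Ideal.le_comap_map).FaithfullyFlat := by
  haveI : Algebra.Smooth A (MvPolynomial (Fin r) A) := {}
  haveI : Algebra.Smooth k (MvPolynomial (Fin r) A) := Algebra.Smooth.comp k A _
  exact faithfullyFlat_quotientMap _ (faithfullyFlat_frobenius p k _) J

include k in
theorem pth_main (r : ℕ) (J : Ideal (MvPolynomial (Fin r) A)) :
    Quiet.IsPthRoot p (Spec.map (CommRingCat.ofHom
      (Ideal.quotientMap (J.map (frobenius (MvPolynomial (Fin r) A) p))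
        (frobenius (MvPolynomial (Fin r) A) p) Ideal.le_comap_map))) := by
  haveI : Algebra.Smooth A (MvPolynomial (Fin r) A) := {}
  haveI : Algebra.Smooth k (MvPolynomial (Fin r) A) := Algebra.Smooth.comp k A _
  exact isPthRoot_quot p k _ J

end Main

end Groth.Agent.H8.FrobQuot
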